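set_option autoImplicit false
namespace Cfsg.Agent.Lib.Helper6.TCD.Fi22U3
noncomputable def NC (i : Nat) : Nat := Nat.land (Nat.shiftRight 0x4000190000000000000000c000600000000000000002000170000000000000001400054000000000000000500013000000000000000040004c00000000000000050001200000000000000008000440000000000000002000100000000000000000c0003c00000000000000030000c000000000000000000003000000000000000000000b0000000000000000c0002800000000000000010000a0000000000000000400024000000000000000200008000000000000000080001c0000000000000005000060000000000000001400010000000000000000400004000000000000000140000c00000000000000030000300000000000000008000080000000000000001000010000000000000000000000000000000000000000000 (Nat.mul 86 (Nat.land i 511))) 77371252455336267181195263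
end Cfsg.Agent.Lib.Helper6.TCD.Fi22U3
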