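set_option autoImplicit false
namespace Cfsg.Agent.Lib.Helper6.TCD.Fi22U3
noncomputable def SC (i : Nat) : Nat := Nat.land (Nat.shiftRight 0x2300800000010001e00800068020001400800030020002100800000000000000400060020001200800028020001d0080006c02000000000000001000100080002002000000040008802000200080000000000160080003802000000040008802000200080007002000000100003802000000000005402000130080004402000000040001802000000040008802000200080007002000160080000004000000000006c02000190080000001000000000002002000000000006c02000190080000001000100080000004000210080007c02000000040000000000120080002802000210080007c020000000400000000001200800000040000f00800034020000000000024020000700800000010000f00800000040000b0080002402000070080000001000210080007c020000000400060020000001000028020001700800054020000000000044020000000400000000001700800000040001300800044020000000400000000001d0080006c020000000000000010000000000020020001d00800000040001900800000010000000000020020000000400088020002000800000000001600800038020000000400000040002000800000000001600800038020000000000000010001e0080006802000140080003002000000040008802000000100007002000160080003802000000000000000000000040006002000120080002802000000000006c020000000000000010001000800020020001700800054020001300800000000000000400018020000f00800034020000b0080002402000000000000001000280080009c02000260080009402000240080000000 (Nat.mul 30 (Nat.land i 1023))) 1073741823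
end Cfsg.Agent.Lib.Helper6.TCD.Fi22U3
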