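set_option autoImplicit false
namespace Cfsg.Agent.Lib.Helper6.TCD.Fi22U3
noncomputable def WDL0 (i : Nat) : Nat := Nat.land (Nat.shiftRight 0x50504005050040004040400404004000303040030300400020204002020040101010610101006000055020000440200003302000022020000110200000002 (Nat.mul 32 (Nat.land i 15))) 4294967295
noncomputable def WDL1 (i : Nat) : Nat := Nat.land (Nat.shiftRight 0x34343406434343062525250652525206002424040042420423232306323232060015150400515104001414040041410400131304003131041212120621212106 (Nat.mul 32 (Nat.land i 15))) 4294967295
noncomputable def WDP0N0 (i : Nat) : Nat := Bool.rec (WDL0 i) (WDL1 i) (Nat.ble 16 i)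
noncomputable def WDL2 (i : Nat) : Nat := Nat.land (Nat.shiftRight 0x5010000040100000301000002010000010100454504005454040035350400535304 (Nat.mul 32 (Nat.land i 15))) 4294967295
noncomputable def WD (i : Nat) : Nat := Bool.rec (WDP0N0 i) (WDL2 i) (Nat.ble 32 i)
end Cfsg.Agent.Lib.Helper6.TCD.Fi22U3
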